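import Mathlib
import Cfsg.Prelude.Def_Solvable

/-!
Constructing Frobenius groups from fixed-point-free actions.
-/

set_option autoImplicit false

namespace Cfsg.Agent.FrobExamples

open Subgroup
open scoped Pointwise

universe u v

/-- A group acting without fixed points on a finite group is a Frobenius complement. -/
theorem exists_frobenius_of_action {V H : Type} [Group V] [Group H] [Finite V] [Finite H] [Nontrivial V]
    [Nontrivial H] (φ : H →* MulAut V) (hfpf : ∀ h, h ≠ 1 → ∀ v, φ h v = v → v = 1) :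
    ∃ (L : Type) (_ : Group L) (_ : Finite L) (C : Subgroup L),
      Cfsg.IsFrobeniusComplement C ∧ Nonempty (H ≃* C) := by
  have : Finite (V ⋊[φ] H) := Finite.of_injective (fun x => (x.left, x.right)) fun x y h =>
    SemidirectProduct.ext (congrArg Prod.fst h) (congrArg Prod.snd h)
  set C := (SemidirectProduct.inr : H →* V ⋊[φ] H).range with hC
  have hmem : ∀ x : V ⋊[φ] H, x ∈ C ↔ x.left = 1 := fun x => by
    constructor
    · rintro ⟨h, rfl⟩; rfl
    · intro h; exact ⟨x.right, SemidirectProduct.ext (by simp [h]) (by simp)⟩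
  refine ⟨V ⋊[φ] H, inferInstance, inferInstance, C, ⟨?_, ?_, fun g hg => ?_⟩,
    ⟨MonoidHom.ofInjective SemidirectProduct.inr_injective⟩⟩
  · obtain ⟨h, hh⟩ := exists_ne (1 : H)
    intro e
    exact hh (SemidirectProduct.inr_injective ((mem_bot.mp (e ▸ ⟨h, rfl⟩ : (SemidirectProduct.inr h : V ⋊[φ] H) ∈ (⊥ : Subgroup (V ⋊[φ] H)))).trans (map_one _).symm))
  · obtain ⟨v, hv⟩ := exists_ne (1 : V)
    intro e
    exact hv ((hmem (SemidirectProduct.inl v)).mp (e ▸ mem_top _))
  · rw [eq_bot_iff]
    intro c hc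
    obtain ⟨hc1, hc2⟩ := hc
    rw [SetLike.mem_coe, Subgroup.mem_toSubmonoid] at *
    rw [mem_pointwise_smul_iff_inv_smul_mem, hmem] at hc2
    rw [hmem] at hg hc1
    rw [mem_bot]
    by_contra hne
    have hr : c.right ≠ 1 := fun h => hne (SemidirectProduct.ext hc1 h)
    apply hg
    refine hfpf c.right hr _ ?_
    have h2 : (g⁻¹ * c * g).left = 1 := by simpa [MulAut.smul_def, mul_assoc] using hc2
    simp only [SemidirectProduct.mul_left, SemidirectProduct.inv_left, hc1, map_one, mul_one,
      SemidirectProduct.inv_right, SemidirectProduct.mul_right, map_mul, MulAut.mul_apply] at h2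
    rw [← map_mul, map_eq_one_iff _ (φ g.right⁻¹).injective, inv_mul_eq_one] at h2
    exact h2.symm

/-- The same, for groups in arbitrary universes. -/
theorem exists_frobenius_of_action' {V : Type v} {H : Type u} [Group V] [Group H] [Finite V] [Finite H]
    [Nontrivial V] [Nontrivial H] (φ : H →* MulAut V) (hfpf : ∀ h, h ≠ 1 → ∀ x, φ h x = x → x = 1) :
    ∃ (L : Type) (_ : Group L) (_ : Finite L) (C : Subgroup L),
      Cfsg.IsFrobeniusComplement C ∧ Nonempty (H ≃* C) := by
  let eH : Shrink.{0} H ≃* H := Shrink.mulEquiv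
  let eV : Shrink.{0} V ≃* V := Shrink.mulEquiv
  have : Finite (Shrink.{0} H) := Finite.of_equiv _ eH.toEquiv.symm
  have : Finite (Shrink.{0} V) := Finite.of_equiv _ eV.toEquiv.symm
  have : Nontrivial (Shrink.{0} H) := eH.toEquiv.nontrivial
  have : Nontrivial (Shrink.{0} V) := eV.toEquiv.nontrivial
  let ψ : Shrink.{0} H →* MulAut (Shrink.{0} V) :=
    { toFun := fun h => (eV.trans (φ (eH h))).trans eV.symm
      map_one' := MulEquiv.ext fun x => by simp
      map_mul' := fun h k => MulEquiv.ext fun x => by simp }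
  obtain ⟨L, i1, i2, C, hC, ⟨k⟩⟩ := exists_frobenius_of_action ψ fun h hh x hx => by
    refine (map_eq_one_iff eV eV.injective).mp
      (hfpf (eH h) (fun h1 => hh ((map_eq_one_iff eH eH.injective).mp h1)) _ ?_)
    simpa [ψ] using congrArg eV hx
  exact ⟨L, i1, i2, C, hC, ⟨eH.symm.trans k⟩⟩

/-- Left multiplication on the additive group of `A/qA`, for a finite group of units of a ring without
zero divisors. -/
theorem exists_frobenius_of_units {D : Type u} [Ring D] [IsDomain D] (H : Subgroup Dˣ) [Finite H]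
    (hH : H ≠ ⊥) :
    ∃ (L : Type) (_ : Group L) (_ : Finite L) (C : Subgroup L),
      Cfsg.IsFrobeniusComplement C ∧ Nonempty (H ≃* C) := by
  classical
  have : Nontrivial H := (Subgroup.nontrivial_iff_ne_bot H).mpr hH
  cases nonempty_fintype H
  let emb : H → D := fun h => ((h : Dˣ) : D)
  let A : Submodule ℤ D := Submodule.span ℤ (Set.range emb)
  have hfg : A.FG := Submodule.fg_span (Set.finite_range emb)
  have hemb : ∀ h : H, emb h ∈ A := fun h => Submodule.subset_span ⟨h, rfl⟩
  have hmulA : ∀ h : H, ∀ a ∈ A, emb h * a ∈ A := by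
    intro h a ha
    induction ha using Submodule.span_induction with
    | mem x hx =>
      obtain ⟨k, rfl⟩ := hx
      exact Submodule.subset_span ⟨h * k, by simp [emb]⟩
    | zero => rw [mul_zero]; exact A.zero_mem
    | add x y _ _ hx hy => rw [mul_add]; exact A.add_mem hx hy
    | smul c x _ hx => rw [mul_smul_comm]; exact A.smul_mem c hx
  -- a prime not dividing the order of any element, equal to the characteristic if this is positive
  obtain ⟨q, hq, hqchar, hcop⟩ : ∃ q : ℕ, q.Prime ∧ (∀ r : ℤ, (r : D) = 0 → (q : ℤ) ∣ r) ∧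
      ∀ h : H, ¬ q ∣ orderOf h := by
    obtain ⟨p, hp⟩ := CharP.exists D
    rcases CharP.char_is_prime_or_zero D p with hpp | hp0
    · refine ⟨p, hpp, fun r hr => (CharP.intCast_eq_zero_iff D p r).mp hr, fun h hd => ?_⟩
      have := Fact.mk hpp
      have ho : orderOf (h ^ (orderOf h / p)) = p := orderOf_pow_orderOf_div (orderOf_pos h).ne' hd
      set k := h ^ (orderOf h / p)
      have hk : emb k ^ p = 1 := by
        show (((k : Dˣ) : D)) ^ p = 1
        rw [← Units.val_pow_eq_pow_val, ← SubgroupClass.coe_pow, ← ho, pow_orderOf_eq_one]; rfl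
      have h1 : (emb k - 1) ^ p = 0 := by
        rw [sub_pow_char_of_commute _ (Commute.one_right _), hk, one_pow, sub_self]
      have h2 := sub_eq_zero.mp ((pow_eq_zero_iff hpp.ne_zero).mp h1)
      have h3 : k = 1 := Subtype.ext (Units.ext h2)
      rw [h3, orderOf_one] at ho
      exact hpp.one_lt.ne ho
    · subst hp0
      obtain ⟨q, hqle, hq⟩ := Nat.exists_infinite_primes (Nat.card H + 1)
      refine ⟨q, hq, fun r hr => ?_, fun h hd => ?_⟩
      · rw [CharP.intCast_eq_zero_iff D 0] at hr
        rw [Nat.cast_zero, zero_dvd_iff] at hr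
        rw [hr]; exact dvd_zero _
      · have := Nat.le_of_dvd Nat.card_pos (hd.trans (orderOf_dvd_natCard h))
        omega
  let W : Submodule ℤ A := (Ideal.span {(q : ℤ)}) • ⊤
  have : Module.Finite ℤ A := Module.Finite.iff_fg.mpr hfg
  have hW : ∀ a : A, a ∈ W ↔ ∃ b : A, (q : ℤ) • b = a := by
    intro a
    simp [W, Submodule.ideal_span_singleton_smul, Submodule.mem_smul_pointwise_iff_exists]
  have hfinV : Finite (A ⧸ W) := by
    have : Module.Finite ℤ (A ⧸ W) := inferInstance
    have : AddGroup.FG (A ⧸ W) := Module.Finite.iff_addGroup_fg.mp this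
    refine AddCommGroup.finite_of_fg_isAddTorsion _ fun v => ?_
    obtain ⟨a, rfl⟩ := Submodule.Quotient.mk_surjective _ v
    refine isOfFinAddOrder_iff_nsmul_eq_zero.mpr ⟨q, hq.pos, ?_⟩
    rw [← Submodule.Quotient.mk_smul, Submodule.Quotient.mk_eq_zero, hW]
    exact ⟨a, by rw [natCast_zsmul]⟩
  have hntV : Nontrivial (A ⧸ W) := by
    rw [Submodule.Quotient.nontrivial_iff]
    intro htop
    obtain ⟨r, hr1, hr2⟩ := Submodule.exists_sub_one_mem_and_smul_eq_zero_of_fg_of_le_smul
      (Ideal.span {(q : ℤ)}) (⊤ : Submodule ℤ A) Module.Finite.fg_top htop.ge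
    rw [Ideal.mem_span_singleton] at hr1
    have h1 : emb (1 : H) = 1 := rfl
    have h2 : r • (⟨1, h1 ▸ hemb 1⟩ : A) = 0 := hr2 _ Submodule.mem_top
    have h3 : (r : D) = 0 := by
      have := congrArg Subtype.val h2
      simpa using this
    have h4 := dvd_sub (hqchar r h3) hr1
    rw [sub_sub_cancel] at h4
    exact hq.one_lt.ne' (Nat.eq_one_of_dvd_one (Int.natCast_dvd_natCast.mp (by simpa using h4)))
  let lm : H →* Module.End ℤ A :=
    { toFun := fun h =>
        { toFun := fun a => ⟨emb h * a, hmulA h a a.2⟩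
          map_add' := fun a b => Subtype.ext (mul_add _ _ _)
          map_smul' := fun c a => Subtype.ext (mul_smul_comm c _ _) }
      map_one' := LinearMap.ext fun a => Subtype.ext (one_mul _)
      map_mul' := fun h k => LinearMap.ext fun a => Subtype.ext (by
        show emb (h * k) * (a : D) = emb h * (emb k * a)
        rw [← mul_assoc]; rfl) }
  have hWinv : ∀ h, W ≤ W.comap (lm h) := fun h a ha => by
    obtain ⟨b, rfl⟩ := (hW a).mp ha
    rw [Submodule.mem_comap, map_smul, hW]
    exact ⟨_, rfl⟩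
  let act : H → (A ⧸ W) →ₗ[ℤ] (A ⧸ W) := fun h => W.mapQ W (lm h) (hWinv h)
  have hactmk : ∀ h a, act h (Submodule.Quotient.mk a) = Submodule.Quotient.mk (lm h a) := fun h a => rfl
  have hone : ∀ v, act 1 v = v := fun v => by
    obtain ⟨a, rfl⟩ := Submodule.Quotient.mk_surjective _ v
    rw [hactmk, map_one]; rfl
  have hmul : ∀ h k v, act (h * k) v = act h (act k v) := fun h k v => by
    obtain ⟨a, rfl⟩ := Submodule.Quotient.mk_surjective _ v
    rw [hactmk, hactmk, hactmk, map_mul]; rfl
  let φ : H →* MulAut (Multiplicative (A ⧸ W)) :=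
    { toFun := fun h => AddEquiv.toMultiplicative
        { toFun := fun x => act h x
          invFun := fun x => act h⁻¹ x
          left_inv := fun x => by simp [← hmul, hone]
          right_inv := fun x => by simp [← hmul, hone]
          map_add' := fun x y => map_add _ _ _ }
      map_one' := MulEquiv.ext fun x => congrArg Multiplicative.ofAdd (hone _)
      map_mul' := fun h k => MulEquiv.ext fun x => congrArg Multiplicative.ofAdd (hmul h k _) }
  refine exists_frobenius_of_action' φ fun h hh v hv => Multiplicative.toAdd.injective ?_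
  have hv' : act h v.toAdd = v.toAdd := congrArg Multiplicative.toAdd hv
  obtain ⟨a, ha⟩ := Submodule.Quotient.mk_surjective _ v.toAdd
  rw [← ha] at hv' ⊢
  rw [hactmk, Submodule.Quotient.eq, hW] at hv'
  obtain ⟨b, hb⟩ := hv'
  rw [toAdd_one, Submodule.Quotient.mk_eq_zero]
  -- `m = (Σ i h^i)(h - 1)`
  set m := orderOf h with hm
  let S : D := ∑ i ∈ Finset.range m, (i : D) * emb h ^ i
  have hpow : emb h ^ m = 1 := by
    show ((h : Dˣ) : D) ^ m = 1
    rw [← Units.val_pow_eq_pow_val, ← SubgroupClass.coe_pow, hm, pow_orderOf_eq_one]; rfl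
  have hS : S * (emb h - 1) = (m : D) := by
    have key : ∀ k : ℕ, (∑ i ∈ Finset.range k, (i : D) * emb h ^ i) * (emb h - 1) =
        (k : D) * emb h ^ k - (∑ i ∈ Finset.range k, emb h ^ i) * emb h := by
      intro k
      induction k with
      | zero => simp
      | succ k ih =>
        rw [Finset.sum_range_succ, add_mul, ih, Finset.sum_range_succ, pow_succ]
        push_cast
        noncomm_ring
    have hgeo : (∑ i ∈ Finset.range m, emb h ^ i) * (emb h - 1) = 0 := by
      rw [geom_sum_mul, hpow, sub_self]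
    have hne : emb h - 1 ≠ 0 := fun h0 => hh (Subtype.ext (Units.ext (sub_eq_zero.mp h0)))
    rw [key m, (mul_eq_zero.mp hgeo).resolve_right hne, hpow, zero_mul, sub_zero, mul_one]
  have hSA : ∀ x ∈ A, S * x ∈ A := fun x hx => by
    rw [show S * x = ∑ i ∈ Finset.range m, (i : D) * emb h ^ i * x from Finset.sum_mul ..]
    refine A.sum_mem fun i _ => ?_
    have hi : emb (h ^ i) = emb h ^ i := by simp [emb]
    rw [mul_assoc, ← nsmul_eq_mul, ← hi]
    exact A.nsmul_mem (hmulA _ _ hx) i
  -- so `m a` lies in `qA`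
  have hma : (m : ℤ) • a ∈ W := by
    refine (hW _).mpr ⟨⟨S * (b : D), hSA _ b.2⟩, Subtype.ext ?_⟩
    have hb' : (q : ℤ) • (b : D) = emb h * (a : D) - (a : D) := congrArg Subtype.val hb
    show (q : ℤ) • (S * (b : D)) = (m : ℤ) • (a : D)
    rw [← mul_smul_comm, hb', show emb h * (a : D) - a = (emb h - 1) * a by rw [sub_mul, one_mul],
      ← mul_assoc, hS, zsmul_eq_mul, Int.cast_natCast]
  obtain ⟨u, w, huw⟩ := (Int.isCoprime_iff_gcd_eq_one.mpr
    ((Int.gcd_natCast_natCast m q).trans ((hq.coprime_iff_not_dvd.mpr (hcop h)).symm)))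
  have : a = u • ((m : ℤ) • a) + w • ((q : ℤ) • a) := by rw [smul_smul, smul_smul, ← add_smul, huw, one_smul]
  rw [this]
  exact W.add_mem (W.smul_mem _ hma) (W.smul_mem _ ((hW _).mpr ⟨a, rfl⟩))

end Cfsg.Agent.FrobExamples
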